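import Groth.Agent.VBPnHyper.Basic
import Groth.Agent.CycLib.ProjBdl.BundleBC
import Groth.Agent.CycLib.ChowOp.Ops

/-!
# Cohomology along the restriction to a hyperplane
-/

set_option autoImplicit false
set_option linter.style.haveILetI false
set_option backward.isDefEq.respectTransparency false
set_option backward.isDefEq.respectTransparency.types false

universe u

open CategoryTheory CategoryTheory.Limits AlgebraicGeometry TopologicalSpace Opposite

noncomputable section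

namespace Groth.Agent.VBPnHyper

set_option maxHeartbeats 1000000
set_option synthInstance.maxHeartbeats 400000

open Groth.Agent.ProjTwist Groth.Agent.ProjTwist.Pn

variable {k : Type u} [Field k]

theorem isCoh_of_rank {N r : ℕ} {E : (CohB1.ProjSpace N k).Modules} (hE : FlatMod.IsFinLocFreeOfRank r E) :
    Coh.IsCoh E :=
  haveI := SerrePn.isLocallyNoetherian (n := N) (R := k)
  PerfTri.Bounded.isCoh_of_isFinLocFree (CycLib.ChowOp.isFinLocFree_of_rank hE)

/-- Twists pull back to twists. -/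
theorem nonempty_pullTwistO {m n : ℕ} (i : CohB1.ProjSpace m k ⟶ CohB1.ProjSpace n k)
    (hO : Nonempty ((Scheme.Modules.pullback i).obj (Twist.twistProjSpace n k 1) ≅ Twist.twistProjSpace m k 1))
    (d : ℤ) :
    Nonempty ((Scheme.Modules.pullback i).obj (Twist.twistProjSpace n k d) ≅ Twist.twistProjSpace m k d) :=
  DualAbs.nonempty_pullback_twist_all (N := n) (k := k) (X := CohB1.ProjSpace m k) i
    (Twist.twistProjSpace m k) (fun a b => nonempty_twistProjSpace_tensor m k a b)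
    ⟨(twistZeroIso (CohB1.polyGrading m k)).symm⟩ hO d

theorem nonempty_pullTwist {m n : ℕ} (i : CohB1.ProjSpace m k ⟶ CohB1.ProjSpace n k)
    (hO : Nonempty ((Scheme.Modules.pullback i).obj (Twist.twistProjSpace n k 1) ≅ Twist.twistProjSpace m k 1))
    (F : (CohB1.ProjSpace n k).Modules) (d : ℤ) :
    Nonempty ((Scheme.Modules.pullback i).obj (twF F d) ≅ twF ((Scheme.Modules.pullback i).obj F) d) := by
  obtain ⟨e⟩ := nonempty_pullTwistO i hO d
  exact ⟨KFlat.PullTensor.pullTensorIso i F (Twist.twistProjSpace n k d) ≪≫ tensCongr (Iso.refl _) e⟩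

theorem nonempty_twist_push {m n : ℕ} (i : CohB1.ProjSpace m k ⟶ CohB1.ProjSpace n k) [IsClosedImmersion i]
    (hO : Nonempty ((Scheme.Modules.pullback i).obj (Twist.twistProjSpace n k 1) ≅ Twist.twistProjSpace m k 1))
    (G : (CohB1.ProjSpace m k).Modules) (d : ℤ) :
    Nonempty (twF ((Scheme.Modules.pushforward i).obj G) d ≅ (Scheme.Modules.pushforward i).obj (twF G d)) := by
  obtain ⟨e⟩ := nonempty_pullTwistO i hO d
  exact ⟨tensComm _ _ ≪≫ (ChgRings.projIso i G).app (Twist.twistProjSpace n k d) ≪≫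
    (Scheme.Modules.pushforward i).mapIso (tensComm _ _ ≪≫ tensCongr (Iso.refl G) e)⟩

theorem subsingleton_push {X Y : Scheme.{u}} (f : X ⟶ Y) [IsAffineHom f] (g : Y ⟶ Spec (CommRingCat.of k))
    (M : X.Modules) (hM : Coh.IsQCoh M) (i : ℕ) (h : Subsingleton (Coh.HH X M i)) :
    Subsingleton (Coh.HH Y ((Scheme.Modules.pushforward f).obj M) i) := by
  letI : Y.Over (Spec (CommRingCat.of k)) := ⟨g⟩
  letI : X.Over (Spec (CommRingCat.of k)) := ⟨f ≫ g⟩
  obtain ⟨e⟩ := EulerChar.nonempty_pushEquiv f (A := k) rfl M hM i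
  exact e.toEquiv.subsingleton

theorem subsingleton_mid {N : ℕ} {S : ShortComplex (CohB1.ProjSpace N k).Modules} (hS : S.ShortExact) (i : ℕ)
    (h1 : Subsingleton (Coh.HH (CohB1.ProjSpace N k) S.X₁ i))
    (h3 : Subsingleton (Coh.HH (CohB1.ProjSpace N k) S.X₃ i)) :
    Subsingleton (Coh.HH (CohB1.ProjSpace N k) S.X₂ i) := by
  letI : (CohB1.ProjSpace N k).Over (Spec (CommRingCat.of k)) := ⟨CohB1.ProjSpace.toSpec N k⟩
  refine subsingleton_of_forall_eq 0 fun x => ?_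
  obtain ⟨y, rfl⟩ := CohLES.exact₂ k hS x (Subsingleton.elim _ _)
  rw [Subsingleton.elim y 0, map_zero]

theorem subsingleton_left {N : ℕ} {S : ShortComplex (CohB1.ProjSpace N k).Modules} (hS : S.ShortExact) (i : ℕ)
    (h3 : Subsingleton (Coh.HH (CohB1.ProjSpace N k) S.X₃ i))
    (h2 : Subsingleton (Coh.HH (CohB1.ProjSpace N k) S.X₂ (i + 1))) :
    Subsingleton (Coh.HH (CohB1.ProjSpace N k) S.X₁ (i + 1)) := by
  letI : (CohB1.ProjSpace N k).Over (Spec (CommRingCat.of k)) := ⟨CohB1.ProjSpace.toSpec N k⟩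
  refine subsingleton_of_forall_eq 0 fun x => ?_
  obtain ⟨y, rfl⟩ := CohLES.exact₁ k hS rfl x (Subsingleton.elim _ _)
  rw [Subsingleton.elim y 0, map_zero]

theorem exists_ses_tw {N : ℕ} {S : ShortComplex (CohB1.ProjSpace N k).Modules} (hS : S.ShortExact)
    {A B C : (CohB1.ProjSpace N k).Modules} (e₁ : S.X₁ ≅ A) (e₂ : S.X₂ ≅ B) (e₃ : S.X₃ ≅ C) (m : ℤ) :
    ∃ S' : ShortComplex (CohB1.ProjSpace N k).Modules, S'.ShortExact ∧ Nonempty (S'.X₁ ≅ twF A m) ∧
      Nonempty (S'.X₂ ≅ twF B m) ∧ Nonempty (S'.X₃ ≅ twF C m) :=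
  ⟨S.map (twFun N k m), shortExact_tw hS m, ⟨twCongr e₁ m⟩, ⟨twCongr e₂ m⟩, ⟨twCongr e₃ m⟩⟩

variable {n r : ℕ} {j : CohB1.ProjSpace n k ⟶ CohB1.ProjSpace (n + 1) k} (hj : IsHyp j)
  {E : (CohB1.ProjSpace (n + 1) k).Modules} (hE : FlatMod.IsFinLocFreeOfRank r E)

include hj hE in
/-- `0 → E(-1) → E → j_* j^* E → 0`. -/
theorem exists_ses :
    ∃ S : ShortComplex (CohB1.ProjSpace (n + 1) k).Modules, S.ShortExact ∧ Nonempty (S.X₁ ≅ twF E (-1)) ∧
      Nonempty (S.X₂ ≅ E) ∧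
      Nonempty (S.X₃ ≅ (Scheme.Modules.pushforward j).obj ((Scheme.Modules.pullback j).obj E)) := by
  obtain ⟨τ₀, hm, ⟨e⟩⟩ := hj.ses
  haveI := hj.closed
  haveI := hm
  let S₀ := ShortComplex.mk τ₀ (cokernel.π τ₀) (cokernel.condition τ₀)
  have hS₀ : S₀.ShortExact :=
    { exact := ShortComplex.exact_of_g_is_cokernel _ (cokernelIsCokernel τ₀) }
  let F := (DCoh.tensorBi (X := CohB1.ProjSpace (n + 1) k)).obj E
  have eq : F.obj ((Scheme.Modules.pushforward j).obj (Coh.structureModule (CohB1.ProjSpace n k))) ≅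
      (Scheme.Modules.pushforward j).obj ((Scheme.Modules.pullback j).obj E) :=
    EulerChar.tensQuotIso j E
  have h1 : (S₀.map F).X₁ ≅ twF E (-1) := Iso.refl _
  have h2 : (S₀.map F).X₂ ≅ E := tensOne E
  have h3 : (S₀.map F).X₃ ≅ F.obj ((Scheme.Modules.pushforward j).obj (Coh.structureModule (CohB1.ProjSpace n k))) :=
    F.mapIso e
  exact ⟨S₀.map F, CohDev.tens_shortExact hE hS₀, ⟨h1⟩, ⟨h2⟩, ⟨h3 ≪≫ eq⟩⟩

include hj hE in
theorem exists_ses_twist (m : ℤ) :
    ∃ S : ShortComplex (CohB1.ProjSpace (n + 1) k).Modules, S.ShortExact ∧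
      Nonempty (S.X₁ ≅ twF E (m - 1)) ∧ Nonempty (S.X₂ ≅ twF E m) ∧
      ∀ i, Subsingleton (Coh.HH (CohB1.ProjSpace n k) (twF ((Scheme.Modules.pullback j).obj E) m) i) →
        Subsingleton (Coh.HH (CohB1.ProjSpace (n + 1) k) S.X₃ i) := by
  haveI := hj.closed
  obtain ⟨S, hS, ⟨e₁⟩, ⟨e₂⟩, ⟨e₃⟩⟩ := exists_ses hj hE
  obtain ⟨b⟩ := nonempty_twist_push j hj.pull ((Scheme.Modules.pullback j).obj E) m
  obtain ⟨S', hS', ⟨h1⟩, ⟨h2⟩, ⟨h3⟩⟩ := exists_ses_tw hS e₁ e₂ e₃ m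
  refine ⟨S', hS', ⟨h1 ≪≫ twTw E (-1) m (m - 1) (by ring)⟩, ⟨h2⟩, fun i hi => ?_⟩
  refine DualAbs.subsingleton_HH_iso (h3 ≪≫ b).symm
    (subsingleton_push j (CohB1.ProjSpace.toSpec (n + 1) k) _ ?_ i hi)
  exact isQCoh_tw _ (isCoh_of_rank (CycLib.ProjBdl.isFinLocFreeOfRank_pullback j hE)).1 m

include hj hE in
theorem step_up (m : ℤ) (i : ℕ)
    (h1 : Subsingleton (Coh.HH (CohB1.ProjSpace (n + 1) k) (twF E (m - 1)) i))
    (h3 : Subsingleton (Coh.HH (CohB1.ProjSpace n k) (twF ((Scheme.Modules.pullback j).obj E) m) i)) :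
    Subsingleton (Coh.HH (CohB1.ProjSpace (n + 1) k) (twF E m) i) := by
  obtain ⟨S, hS, ⟨e₁⟩, ⟨e₂⟩, h⟩ := exists_ses_twist hj hE m
  exact DualAbs.subsingleton_HH_iso e₂
    (subsingleton_mid hS i (DualAbs.subsingleton_HH_iso e₁.symm h1) (h i h3))

include hj hE in
theorem step_down (m : ℤ) (i : ℕ)
    (h3 : Subsingleton (Coh.HH (CohB1.ProjSpace n k) (twF ((Scheme.Modules.pullback j).obj E) m) i))
    (h2 : Subsingleton (Coh.HH (CohB1.ProjSpace (n + 1) k) (twF E m) (i + 1))) :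
    Subsingleton (Coh.HH (CohB1.ProjSpace (n + 1) k) (twF E (m - 1)) (i + 1)) := by
  obtain ⟨S, hS, ⟨e₁⟩, ⟨e₂⟩, h⟩ := exists_ses_twist hj hE m
  exact DualAbs.subsingleton_HH_iso e₁
    (subsingleton_left hS i (h i h3) (DualAbs.subsingleton_HH_iso e₂.symm h2))

include hj hE in
/-- A cohomology group which vanishes on the hyperplane in degrees `≤ c` vanishes there. -/
theorem subsingleton_of_le (c : ℤ) (i : ℕ) (hi : i < n + 1)
    (h : ∀ m ≤ c, Subsingleton (Coh.HH (CohB1.ProjSpace n k) (twF ((Scheme.Modules.pullback j).obj E) m) i))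
    (m : ℤ) (hm : m ≤ c) : Subsingleton (Coh.HH (CohB1.ProjSpace (n + 1) k) (twF E m) i) := by
  obtain ⟨m₀, hm₀⟩ := DualAbs.negVanish_of_isFinLocFree (isCoh_of_rank hE)
    (CycLib.ChowOp.isFinLocFree_of_rank hE)
  have key : ∀ t : ℕ, ∀ m : ℤ, m ≤ c → m + m₀ ≤ t →
      Subsingleton (Coh.HH (CohB1.ProjSpace (n + 1) k) (twF E m) i) := by
    intro t
    induction t with
    | zero =>
      intro m _ hm'
      have := hm₀ (-m) (by omega) i (by omega)
      rwa [neg_neg] at this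
    | succ t ih =>
      intro m hm hm'
      exact step_up hj hE m i (ih (m - 1) (by omega) (by omega)) (h m hm)
  exact key (m + m₀).toNat m hm (by omega)

include hj hE in
/-- Middle vanishing ascends from a hyperplane. -/
theorem midVanish_of_hyp (hn : 2 ≤ n) (h : DualAbs.MidVanish ((Scheme.Modules.pullback j).obj E)) :
    DualAbs.MidVanish E := by
  obtain ⟨m₀, hm₀⟩ := DualAbs.negVanish_of_isFinLocFree (isCoh_of_rank hE)
    (CycLib.ChowOp.isFinLocFree_of_rank hE)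
  refine ⟨⟨-m₀, fun m hm => ?_⟩, fun m i h1 h2 => ?_⟩
  · have := hm₀ (-m) (by omega) 0 (by omega)
    rwa [neg_neg] at this
  obtain rfl | h1' := eq_or_lt_of_le h1
  · exact subsingleton_of_le hj hE m 1 (by omega) (fun m' _ => h.mid m' 1 le_rfl (by omega)) m le_rfl
  obtain ⟨q, rfl⟩ : ∃ q, i = q + 1 := ⟨i - 1, by omega⟩
  obtain ⟨d₀, hd₀⟩ := serre_vanishing E (isCoh_of_rank hE)
  have key : ∀ t : ℕ, ∀ m : ℤ, d₀ ≤ m + t →
      Subsingleton (Coh.HH (CohB1.ProjSpace (n + 1) k) (twF E m) (q + 1)) := by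
    intro t
    induction t with
    | zero => exact fun m hm => hd₀ m (by omega) _ (by omega)
    | succ t ih =>
      intro m hm
      have := step_down hj hE (m + 1) q (h.mid _ q (by omega) (by omega)) (ih (m + 1) (by omega))
      rwa [add_sub_cancel_right] at this
  exact key (d₀ - m).toNat m (by omega)

end Groth.Agent.VBPnHyper
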