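import Groth.Agent.VBPnHyper.Base

/-!
# Ascending from a linear subspace
-/

set_option autoImplicit false
set_option linter.style.haveILetI false
set_option backward.isDefEq.respectTransparency false
set_option backward.isDefEq.respectTransparency.types false

universe u

open CategoryTheory CategoryTheory.Limits AlgebraicGeometry TopologicalSpace Opposite

noncomputable section

namespace Groth.Agent.VBPnHyper

open Groth.Agent.ProjTwist Groth.Agent.ProjTwist.Pn

variable {k : Type u} [Field k]

/-- No sections in negative twists if trivial on a line. -/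
theorem h0_of_trivial_on_line {r : ℕ} : ∀ (n : ℕ) (E : (CohB1.ProjSpace n k).Modules),
    FlatMod.IsFinLocFreeOfRank r E →
    ∀ (i : CohB1.ProjSpace 1 k ⟶ CohB1.ProjSpace n k), IsClosedImmersion i →
    i ≫ CohB1.ProjSpace.toSpec n k = CohB1.ProjSpace.toSpec 1 k →
    Nonempty ((Scheme.Modules.pullback i).obj (Twist.twistProjSpace n k 1) ≅ Twist.twistProjSpace 1 k 1) →
    Nonempty ((Scheme.Modules.pullback i).obj E ≅ ∐ fun _ : Fin r => Twist.twistProjSpace 1 k (0 : ℤ)) →
    ∀ m : ℤ, m ≤ -1 → Subsingleton (Coh.HH (CohB1.ProjSpace n k) (twF E m) 0) := by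
  intro n
  induction n with
  | zero =>
    intro E _ i hi
    haveI := hi
    exact absurd (le_of_isClosedImmersion i) (by omega)
  | succ n ih =>
    intro E hE i hi hs hO htriv m hm
    haveI := hi
    cases n with
    | zero =>
      obtain ⟨e⟩ := htriv
      obtain ⟨e'⟩ := nonempty_split_of_endo i hO E (fun _ => 0) e
      exact DualAbs.subsingleton_HH_iso (twCongr e' m).symm
        (DualAbs.subsingleton_HH_coprod (fun _ : Fin r => (0 : ℤ)) m 0 fun _ =>
          subsingleton_H0 le_rfl (by omega))
    | succ n =>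
      obtain ⟨j, i', hj, hfac, hi', hs', hO'⟩ := exists_factor i hs hO (by omega)
      refine subsingleton_of_le hj hE (-1) 0 (by omega) (fun m' hm' => ?_) m hm
      obtain ⟨e⟩ := htriv
      exact ih _ (CycLib.ProjBdl.isFinLocFreeOfRank_pullback j hE) i' hi' hs' hO'
        ⟨(Scheme.Modules.pullbackComp i' j).app E ≪≫ (Scheme.Modules.pullbackCongr hfac).app E ≪≫ e⟩ m' hm'

/-- No middle cohomology if split on a plane. -/
theorem midVanish_of_split_on_plane {r : ℕ} : ∀ (n : ℕ) (E : (CohB1.ProjSpace n k).Modules),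
    FlatMod.IsFinLocFreeOfRank r E →
    ∀ (i : CohB1.ProjSpace 2 k ⟶ CohB1.ProjSpace n k), IsClosedImmersion i →
    i ≫ CohB1.ProjSpace.toSpec n k = CohB1.ProjSpace.toSpec 2 k →
    Nonempty ((Scheme.Modules.pullback i).obj (Twist.twistProjSpace n k 1) ≅ Twist.twistProjSpace 2 k 1) →
    (∃ a : Fin r → ℤ,
      Nonempty ((Scheme.Modules.pullback i).obj E ≅ ∐ fun j : Fin r => Twist.twistProjSpace 2 k (a j))) →
    DualAbs.MidVanish E := by
  intro n
  induction n with
  | zero =>
    intro E _ i hi
    haveI := hi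
    exact absurd (le_of_isClosedImmersion i) (by omega)
  | succ n ih =>
    intro E hE i hi hs hO hsplit
    haveI := hi
    obtain ⟨a, ⟨e⟩⟩ := hsplit
    have hle := le_of_isClosedImmersion i
    obtain hn | hn := eq_or_lt_of_le hle
    · obtain rfl : n = 1 := by omega
      obtain ⟨e'⟩ := nonempty_split_of_endo i hO E a e
      exact DualAbs.midVanish_of_split (by omega) a e'
    · obtain ⟨j, i', hj, hfac, hi', hs', hO'⟩ := exists_factor i hs hO (by omega)
      exact midVanish_of_hyp hj hE (by omega) (ih _ (CycLib.ProjBdl.isFinLocFreeOfRank_pullback j hE) i' hi' hs'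
        hO' ⟨a, ⟨(Scheme.Modules.pullbackComp i' j).app E ≪≫ (Scheme.Modules.pullbackCongr hfac).app E ≪≫ e⟩⟩)

end Groth.Agent.VBPnHyper
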