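import Groth.Agent.HyperP.Main
import Groth.Agent.CartFilt.Basic
import Groth.Agent.EulerSeq.Restrict
import Groth.Agent.DualAbs.ProjEmbed
import Groth.Agent.DualAbs.Horrocks
import Groth.Agent.EulerChar.Restrict
import Groth.Agent.EulerChar.Push
import Groth.Agent.HilbLoc.Normal
import Groth.Agent.CohLES.Basic
import Groth.Agent.VBStable.Main

/-!
# Hyperplanes `P^n ⟶ P^{n+1}` and the restriction sequence
-/

set_option autoImplicit false
set_option linter.style.haveILetI false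
set_option backward.isDefEq.respectTransparency false
set_option backward.isDefEq.respectTransparency.types false

universe u

open CategoryTheory CategoryTheory.Limits AlgebraicGeometry TopologicalSpace Opposite
  HomogeneousLocalization

noncomputable section

namespace Groth.Agent.VBPnHyper

open Groth.Agent.QCoh Groth.Agent.Props.GenLocus Groth.Agent.ProjMorph Groth.Agent.ProjTwist
open Groth.Agent.PullStalk.Sky Groth.Agent.PullStalk.Exact

section Gen

variable {X : Scheme.{u}} {P : X.Modules} (φ : P ⟶ Coh.structureModule X) {U : X.Opens}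
  {u : Γ(P, U)} {g : Γ(X, U)}

/-- A morphism to `O` sending a generator to `g` has range the multiples of `g`. -/
theorem rangeEq_of_gen (hu : IsGen P U u) (hg : φ.app U u = g) {x : X} (hx : x ∈ U) :
    CartFilt.RangeEq φ x (X.presheaf.germ U x hx g) := by
  intro t
  constructor
  · rintro ⟨z, rfl⟩
    obtain ⟨W, hxW, m, rfl⟩ := exists_germM_eq _ x z
    obtain ⟨c, hc, -⟩ := hu.exists_eq (inf_le_right : W ⊓ U ≤ U) (res _ inf_le_left m)
    refine ⟨germM (Coh.structureModule X) (W ⊓ U) x ⟨hxW, hx⟩ c, ?_⟩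
    rw [← AssSch.Stalk.germM_res _ (inf_le_left : W ⊓ U ≤ W) x ⟨hxW, hx⟩ m, stalkLin_germ, hc,
      Scheme.Modules.Hom.app_smul, app_res, germM_smul, AssSch.Stalk.germM_res, hg]
    exact CartFilt.smulO_comm hx _ _ _
  · rintro ⟨s, rfl⟩
    obtain ⟨W, hW, c, rfl⟩ := exists_germM_eq (Coh.structureModule X) x s
    refine ⟨X.presheaf.germ W x hW c • germM _ U x hx u, ?_⟩
    rw [map_smul, stalkLin_germ, hg]
    exact CartFilt.smulO_comm hW c hx _

/-- Such a morphism is injective where `g` is regular. -/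
theorem stalkLin_injective_of_gen (hu : IsGen P U u) (hg : φ.app U u = g) {x : X} (hx : x ∈ U)
    (hreg : IsLeftRegular (X.presheaf.germ U x hx g)) : Function.Injective (stalkLin φ x) := by
  refine (injective_iff_map_eq_zero _).mpr fun t ht => ?_
  have hb := ((isGen_iff_isFrame _).mp hu).stalkComb_bijective x hx
  obtain ⟨c, rfl⟩ := hb.2 t
  simp only [LFFrame.stalkComb, Fintype.linearCombination_apply, Fin.sum_univ_one, map_smul,
    stalkLin_germ, hg] at ht ⊢
  have e1 : germM (Coh.structureModule X) U x hx g =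
      X.presheaf.germ U x hx g • germM (Coh.structureModule X) U x hx (one' U) := by
    rw [← germM_smul]
    exact congrArg (germM (Coh.structureModule X) U x hx) (mul_one g).symm
  rw [e1, smul_smul] at ht
  have h1 := (((isGen_iff_isFrame _).mp (CartFilt.isGen_one U)).stalkComb_bijective x hx).1
    (a₁ := fun _ => c 0 * X.presheaf.germ U x hx g) (a₂ := 0) (by
      simp only [LFFrame.stalkComb, Fintype.linearCombination_apply, Fin.sum_univ_one, Pi.zero_apply,
        zero_smul]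
      exact ht)
  have h2 : c 0 = 0 := hreg (show X.presheaf.germ U x hx g * c 0 = X.presheaf.germ U x hx g * 0 by
    rw [mul_zero, mul_comm]; exact congrFun h1 0)
  rw [h2, zero_smul]

end Gen

section Graded

variable {R A : Type u} [CommRing R] [CommRing A] [Algebra R A] {𝒜 : ℕ → Submodule R A}
  [GradedAlgebra 𝒜]

theorem mulHom_unitSec {a f : A} (ha : a ∈ 𝒜 1) (hf : f ∈ 𝒜 1) :
    (ProjTwist.mulHom hf (neg_add_cancel 1)).app (Proj.basicOpen 𝒜 a)
        (unitSec ha (-1) (op (Proj.basicOpen 𝒜 a)) (fun x => not_mem_of_le_basicOpen le_rfl x)) =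
      (oneHom 𝒜).app (Proj.basicOpen 𝒜 a) (ratio ha hf) := by
  refine sectN_ext fun x => ?_
  refine Eq.trans ?_ (smul_coe (show Twist.O (𝒜 := 𝒜) (op (Proj.basicOpen 𝒜 a)) from ratio ha hf)
    (oneSec 𝒜 (op (Proj.basicOpen 𝒜 a))) x).symm
  rw [mulHom_app_coe, ProjTwist.mulSec_coe, unitSec_coe, oneSec_coe, mul_one]
  show (((unitAt x.1 (not_mem_of_le_basicOpen le_rfl x)) ^ (-1 : ℤ) : (Twist.Loc 𝒜 x.1)ˣ) : Twist.Loc 𝒜 x.1) *
      Localization.mk f _ = Props.ProjFrame.valAt (ratio ha hf) x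
  rw [Props.ProjFrame.valAt_coeff, zpow_neg_one, Units.inv_mul_eq_iff_eq_mul, val_unitAt,
    ← Localization.mk_one_eq_algebraMap, Localization.mk_mul, Localization.mk_eq_mk_iff,
    Localization.r_iff_exists]
  exact ⟨1, by simp [mul_comm]⟩

theorem oneHom_inv_app {a : A} (φ : Γ(Proj 𝒜, Proj.basicOpen 𝒜 a)) :
    (twistZeroIso 𝒜).inv.app (Proj.basicOpen 𝒜 a) ((oneHom 𝒜).app (Proj.basicOpen 𝒜 a) φ) = φ :=
  congr(($((twistZeroIso 𝒜).hom_inv_id)).app (Proj.basicOpen 𝒜 a) φ)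

end Graded

variable {k : Type u} [Field k] {n : ℕ}

local notation "P^" => fun m => CohB1.ProjSpace m k

/-- Multiplication by a linear form, `O(-1) ⟶ O`. -/
def τ (ℓ : MvPolynomial (Fin (n + 2)) k) (hℓ : ℓ ∈ CohB1.polyGrading (n + 1) k 1) :
    Twist.twistProjSpace (n + 1) k (-1) ⟶ Coh.structureModule (CohB1.ProjSpace (n + 1) k) :=
  ProjTwist.mulHom (𝒜 := CohB1.polyGrading (n + 1) k) hℓ (neg_add_cancel 1) ≫
    (twistZeroIso (CohB1.polyGrading (n + 1) k)).inv

/-- The frame of `O(-1)` on a standard open. -/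
def negFrame (i : Fin (n + 2)) :
    Γ(Twist.twistProjSpace (n + 1) k (-1), stdOpen (n + 1) k i) :=
  unitSec (X_mem_polyGrading (n + 1) k i) (-1) (op (stdOpen (n + 1) k i))
    (fun x => not_mem_of_le_basicOpen le_rfl x)

theorem isGen_negFrame (i : Fin (n + 2)) :
    IsGen (Twist.twistProjSpace (n + 1) k (-1)) (stdOpen (n + 1) k i) (negFrame i) := fun V h =>
  bijective_smul_unitSec (X_mem_polyGrading (n + 1) k i) (-1) (op V)
    (fun x => not_mem_of_le_basicOpen h x)

theorem τ_app (ℓ : MvPolynomial (Fin (n + 2)) k) (hℓ : ℓ ∈ CohB1.polyGrading (n + 1) k 1)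
    (i : Fin (n + 2)) :
    (τ ℓ hℓ).app (stdOpen (n + 1) k i) (negFrame i) = ratio (X_mem_polyGrading (n + 1) k i) hℓ :=
  (congrArg ((twistZeroIso (CohB1.polyGrading (n + 1) k)).inv.app (stdOpen (n + 1) k i))
    (mulHom_unitSec (X_mem_polyGrading (n + 1) k i) hℓ)).trans (oneHom_inv_app _)

theorem ratio_ne_zero (ℓ : MvPolynomial (Fin (n + 2)) k) (hℓ : ℓ ∈ CohB1.polyGrading (n + 1) k 1)
    (hℓ0 : ℓ ≠ 0) (i : Fin (n + 2)) : ratio (X_mem_polyGrading (n + 1) k i) hℓ ≠ 0 := by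
  have hX := X_mem_polyGrading (n + 1) k i
  have hℓ' : ℓ ∈ CohB1.polyGrading (n + 1) k (1 • 1) := by rw [one_smul]; exact hℓ
  have hiso : IsIso (Proj.awayToSection (CohB1.polyGrading (n + 1) k) (MvPolynomial.X i)) :=
    inferInstanceAs (IsIso (Proj.basicOpenIsoAway (CohB1.polyGrading (n + 1) k) (MvPolynomial.X i)
      hX one_pos).hom)
  rw [← awayToSection_mk_one hX hℓ hℓ']
  intro h
  have h0 : Away.mk (CohB1.polyGrading (n + 1) k) hX 1 ℓ hℓ' = 0 :=
    (ConcreteCategory.bijective_of_isIso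
      (Proj.awayToSection (CohB1.polyGrading (n + 1) k) (MvPolynomial.X i))).1 (h.trans (map_zero _).symm)
  have h1 := congrArg HomogeneousLocalization.val h0
  rw [Away.val_mk, val_zero, ← Localization.mk_zero 1, Localization.mk_eq_mk_iff,
    Localization.r_iff_exists] at h1
  obtain ⟨⟨_, m, rfl⟩, hm⟩ := h1
  exact hℓ0 (by simpa using hm)

/-- The hyperplane of a linear form. -/
theorem exists_hyperplane (ℓ : MvPolynomial (Fin (n + 2)) k) (hℓ : ℓ ∈ CohB1.polyGrading (n + 1) k 1)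
    (hℓ0 : ℓ ≠ 0) :
    ∃ j : CohB1.ProjSpace n k ⟶ CohB1.ProjSpace (n + 1) k, IsClosedImmersion j ∧
      j ≫ CohB1.ProjSpace.toSpec (n + 1) k = CohB1.ProjSpace.toSpec n k ∧
      Nonempty ((Scheme.Modules.pullback j).obj (Twist.twistProjSpace (n + 1) k 1) ≅
        Twist.twistProjSpace n k 1) ∧
      ∀ i : Fin (n + 2), j.ker.ideal ⟨stdOpen (n + 1) k i,
          Proj.isAffineOpen_basicOpen _ _ (X_mem_polyGrading (n + 1) k i) one_pos⟩ =
        Ideal.span {ratio (X_mem_polyGrading (n + 1) k i) hℓ} := by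
  classical
  obtain ⟨θ, hsurj, hker, hC, hirr⟩ := HyperP.exists_elim ℓ hℓ hℓ0
  refine ⟨Proj.map θ hirr, RelProjLib.isClosedImmersion_map θ hirr hsurj, ?_,
    HyperP.nonempty_pullback_iso θ hirr MvPolynomial.X (X_mem_polyGrading (n + 1) k)
      (iSup_stdOpen (n + 1) k), fun i => ?_⟩
  · show Proj.map θ hirr ≫ Proj.toSpecZero (CohB1.polyGrading (n + 1) k) ≫
      Spec.map (CommRingCat.ofHom (algebraMap k (CohB1.polyGrading (n + 1) k 0))) = _
    rw [← Category.assoc, RelProjLib.map_toSpecZero, Category.assoc, ← Spec.map_comp]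
    show _ = Proj.toSpecZero (CohB1.polyGrading n k) ≫
      Spec.map (CommRingCat.ofHom (algebraMap k (CohB1.polyGrading n k 0)))
    congr 2
    exact CommRingCat.hom_ext (RingHom.ext fun r => Subtype.ext (hC r))
  let ψ := Proj.map θ hirr
  haveI : IsClosedImmersion (Proj.map θ hirr) := RelProjLib.isClosedImmersion_map θ hirr hsurj
  have hX := X_mem_polyGrading (n + 1) k i
  have hℓ' : ℓ ∈ CohB1.polyGrading (n + 1) k (1 • 1) := by rw [one_smul]; exact hℓ
  rw [Scheme.Hom.ker_apply, ← awayToSection_mk_one hX hℓ hℓ']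
  have hiso : IsIso (Proj.awayToSection (CohB1.polyGrading (n + 1) k) (MvPolynomial.X i)) :=
    inferInstanceAs (IsIso (Proj.basicOpenIsoAway (CohB1.polyGrading (n + 1) k) (MvPolynomial.X i)
      hX one_pos).hom)
  have hiso' : IsIso (Proj.awayToSection (CohB1.polyGrading n k) (θ (MvPolynomial.X i))) :=
    inferInstanceAs (IsIso (Proj.basicOpenIsoAway (CohB1.polyGrading n k) (θ (MvPolynomial.X i))
      (θ.2 hX) one_pos).hom)
  have happ : ∀ z, ψ.app (stdOpen (n + 1) k i)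
      ((Proj.awayToSection (CohB1.polyGrading (n + 1) k) (MvPolynomial.X i)).hom z) =
      (Proj.awayToSection (CohB1.polyGrading n k) (θ (MvPolynomial.X i))).hom
        (Away.map θ (MvPolynomial.X i) z) := fun z => by
    rw [Scheme.Hom.app_eq_appLE]
    exact congrArg (fun q => q.hom z) (Proj.awayToSection_comp_appLE θ hirr hX)
  refine le_antisymm (fun c hc => ?_) ?_
  · obtain ⟨z, rfl⟩ := (ConcreteCategory.bijective_of_isIso
      (Proj.awayToSection (CohB1.polyGrading (n + 1) k) (MvPolynomial.X i))).2 c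
    have h0 : Away.map θ (MvPolynomial.X i) z = 0 :=
      (ConcreteCategory.bijective_of_isIso
        (Proj.awayToSection (CohB1.polyGrading n k) (θ (MvPolynomial.X i)))).1
        (((happ z).symm.trans hc).trans (map_zero _).symm)
    have h1 : z ∈ Ideal.span {Away.mk (CohB1.polyGrading (n + 1) k) hX 1 ℓ hℓ'} := by
      rw [← HyperP.ker_away_map θ hℓ hker hX hℓ']; exact h0
    obtain ⟨w, rfl⟩ := Ideal.mem_span_singleton'.mp h1
    exact Ideal.mem_span_singleton'.mpr ⟨_, (map_mul _ w _).symm⟩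
  · rw [Ideal.span_le, Set.singleton_subset_iff]
    refine (happ _).trans ?_
    have h1 : Away.mk (CohB1.polyGrading (n + 1) k) hX 1 ℓ hℓ' ∈
        RingHom.ker (Away.map θ (MvPolynomial.X i)) := by
      rw [HyperP.ker_away_map θ hℓ hker hX hℓ']; exact Ideal.mem_span_singleton_self _
    rw [RingHom.mem_ker.mp h1, map_zero]

/-- `j` is a hyperplane cut out by a nonzero linear form. -/
structure IsHyp (j : CohB1.ProjSpace n k ⟶ CohB1.ProjSpace (n + 1) k) : Prop where
  closed : IsClosedImmersion j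
  compat : j ≫ CohB1.ProjSpace.toSpec (n + 1) k = CohB1.ProjSpace.toSpec n k
  pull : Nonempty ((Scheme.Modules.pullback j).obj (Twist.twistProjSpace (n + 1) k 1) ≅
    Twist.twistProjSpace n k 1)
  ses : ∃ τ₀ : Twist.twistProjSpace (n + 1) k (-1) ⟶ Coh.structureModule (CohB1.ProjSpace (n + 1) k),
    Mono τ₀ ∧ Nonempty (cokernel τ₀ ≅
      (Scheme.Modules.pushforward j).obj (Coh.structureModule (CohB1.ProjSpace n k)))

theorem exists_isHyp_τ (ℓ : MvPolynomial (Fin (n + 2)) k) (hℓ : ℓ ∈ CohB1.polyGrading (n + 1) k 1)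
    (hℓ0 : ℓ ≠ 0) :
    ∃ j : CohB1.ProjSpace n k ⟶ CohB1.ProjSpace (n + 1) k, IsHyp j ∧
      (∀ i : Fin (n + 2), j.ker.ideal ⟨stdOpen (n + 1) k i,
          Proj.isAffineOpen_basicOpen _ _ (X_mem_polyGrading (n + 1) k i) one_pos⟩ =
        Ideal.span {ratio (X_mem_polyGrading (n + 1) k i) hℓ}) ∧
      Mono (τ ℓ hℓ) ∧ Nonempty (cokernel (τ ℓ hℓ) ≅
        (Scheme.Modules.pushforward j).obj (Coh.structureModule (CohB1.ProjSpace n k))) := by
  obtain ⟨j, hj, hjs, hjO, hker⟩ := exists_hyperplane ℓ hℓ hℓ0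
  haveI := hj
  haveI := VBStable.isIntegral_projSpace (n := n + 1) (k := k)
  have hreg : ∀ i (x : CohB1.ProjSpace (n + 1) k) (hx : x ∈ stdOpen (n + 1) k i),
      ratio (X_mem_polyGrading (n + 1) k i) hℓ ∈ nonZeroDivisors Γ(CohB1.ProjSpace (n + 1) k, stdOpen (n + 1) k i) ∧
      IsLeftRegular ((CohB1.ProjSpace (n + 1) k).presheaf.germ _ x hx
        (ratio (X_mem_polyGrading (n + 1) k i) hℓ)) := fun i x hx => by
    haveI : Nonempty (stdOpen (n + 1) k i) := ⟨⟨x, hx⟩⟩
    haveI : IsDomain Γ(Proj (CohB1.polyGrading (n + 1) k),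
        Proj.basicOpen (CohB1.polyGrading (n + 1) k) (MvPolynomial.X i)) :=
      inferInstanceAs (IsDomain Γ(CohB1.ProjSpace (n + 1) k, stdOpen (n + 1) k i))
    have h := mem_nonZeroDivisors_of_ne_zero (ratio_ne_zero ℓ hℓ hℓ0 i)
    exact ⟨h, (isRegular_iff_mem_nonZeroDivisors.mpr (IdealSh.Regular.germ_mem_nonZeroDivisors
      (Proj.isAffineOpen_basicOpen _ _ (X_mem_polyGrading (n + 1) k i) one_pos) x hx h)).left⟩
  have hcov : ∀ x : CohB1.ProjSpace (n + 1) k, ∃ i, x ∈ stdOpen (n + 1) k i := fun x =>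
    Opens.mem_iSup.mp ((iSup_stdOpen (n + 1) k).ge (Opens.mem_top x))
  haveI : Mono (τ ℓ hℓ) := Omega.Stalks.mono_of_stalk fun x => by
    obtain ⟨i, hx⟩ := hcov x
    exact stalkLin_injective_of_gen _ (isGen_negFrame i) (τ_app ℓ hℓ i) hx (hreg i x hx).2

  obtain ⟨e⟩ := CartFilt.nonempty_cokernel_iso j.ker (τ ℓ hℓ) fun x => by
    obtain ⟨i, hx⟩ := hcov x
    exact ⟨_, rangeEq_of_gen _ (isGen_negFrame i) (τ_app ℓ hℓ i) hx,
      CartFilt.range_idealModι (U := ⟨stdOpen (n + 1) k i, _⟩) ⟨(hreg i x hx).1, hker i⟩ hx⟩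
  exact ⟨j, ⟨hj, hjs, hjO, τ ℓ hℓ, inferInstance, ⟨e ≪≫ HilbLoc.quotModIso j⟩⟩, hker, inferInstance,
    ⟨e ≪≫ HilbLoc.quotModIso j⟩⟩

theorem exists_isHyp (ℓ : MvPolynomial (Fin (n + 2)) k) (hℓ : ℓ ∈ CohB1.polyGrading (n + 1) k 1)
    (hℓ0 : ℓ ≠ 0) :
    ∃ j : CohB1.ProjSpace n k ⟶ CohB1.ProjSpace (n + 1) k, IsHyp j ∧
      ∀ i : Fin (n + 2), j.ker.ideal ⟨stdOpen (n + 1) k i,
          Proj.isAffineOpen_basicOpen _ _ (X_mem_polyGrading (n + 1) k i) one_pos⟩ =
        Ideal.span {ratio (X_mem_polyGrading (n + 1) k i) hℓ} := by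
  obtain ⟨j, hj, hker, -, -⟩ := exists_isHyp_τ ℓ hℓ hℓ0
  exact ⟨j, hj, hker⟩

end Groth.Agent.VBPnHyper
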